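import Cfsg.Prelude.Def_Classical
import Cfsg.Agent.IsoPSU42.Data
import Cfsg.Agent.Classical.USimple
import Cfsg.Agent.Linear.Symplectic
import Cfsg.Agent.SympSub.Count

/-!
`PSU_4(2) ≅ PSp_4(3)`: both groups act faithfully on 40 points, with the same image.
-/

set_option autoImplicit false
set_option linter.unusedSimpArgs false

namespace Cfsg.Agent.IsoPSU42

open Cfsg.Agent.GFour25
open scoped Matrix

/-- A linear action permuting a table of pairwise independent vectors up to scalars. -/
theorem exists_point_hom {G : Type*} [Group G] {ι F : Type*} [Fintype ι] [DecidableEq ι] [Field F]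
    {N : ℕ} (M : G →* Matrix ι ι F) (P : Fin N → ι → F) (hne : ∀ i, P i ≠ 0)
    (huniq : ∀ i j (c : F), P i = c • P j → i = j)
    (hcov : ∀ g i, ∃ (j : Fin N) (c : F), M g *ᵥ P i = c • P j) :
    ∃ φ : G →* Equiv.Perm (Fin N), ∀ g i j, φ g i = j ↔ ∃ c : F, M g *ᵥ P i = c • P j := by
  choose σ c hσ using hcov
  have hc : ∀ g i, c g i ≠ 0 := by
    intro g i h
    apply hne i
    have h' : M g⁻¹ *ᵥ (M g *ᵥ P i) = P i := by
      rw [Matrix.mulVec_mulVec, ← map_mul, inv_mul_cancel, map_one, Matrix.one_mulVec]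
    rw [← h', hσ, h, zero_smul, Matrix.mulVec_zero]
  have uniq : ∀ g i j (d : F), M g *ᵥ P i = d • P j → σ g i = j := by
    intro g i j d h
    refine huniq _ _ ((c g i)⁻¹ * d) ?_
    rw [mul_smul, ← h, hσ, inv_smul_smul₀ (hc g i)]
  have hmul : ∀ g h i, σ (g * h) i = σ g (σ h i) := by
    intro g h i
    refine uniq _ _ _ (c h i * c g (σ h i)) ?_
    rw [map_mul, ← Matrix.mulVec_mulVec, hσ, Matrix.mulVec_smul, hσ, smul_smul]
  have hone : ∀ i, σ 1 i = i := fun i => uniq 1 i i 1 (by simp)
  refine ⟨{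
    toFun := fun g => ⟨σ g, σ g⁻¹,
      fun i => by rw [← hmul, inv_mul_cancel, hone],
      fun i => by rw [← hmul, mul_inv_cancel, hone]⟩
    map_one' := Equiv.ext hone
    map_mul' := fun g h => Equiv.ext (hmul g h) }, fun g i j => ⟨?_, ?_⟩⟩
  · rintro rfl; exact ⟨_, hσ g i⟩
  · rintro ⟨d, hd⟩; exact uniq g i j d hd

theorem hermForm_eq_uH (u v : Fin 4 → F4) : Cfsg.hermForm 4 F4 2 u v = uH u v := by
  simp [Cfsg.hermForm, uH, Fin.sum_univ_four, sq, add_assoc]

theorem sympForm_eq_sB (u v : Fin 2 ⊕ Fin 2 → ZMod 3) : Cfsg.sympForm 2 (ZMod 3) u v = sB u v := by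
  simp [Cfsg.sympForm, sB, dotProduct, Matrix.mulVec, Matrix.J, Fintype.sum_sum_type,
    Fin.sum_univ_two, Matrix.one_apply]
  ring

theorem sq_add (p q : F4) : (p + q) * (p + q) = p * p + q * q := by revert p q; decide

theorem pow_four (p : F4) : p * p * (p * p) = p := by revert p; decide

theorem uH_add_left (a b c : Fin 4 → F4) : uH (a + b) c = uH a c + uH b c := by
  simp only [uH, Pi.add_apply]; ring

theorem uH_add_right (a b c : Fin 4 → F4) : uH a (b + c) = uH a b + uH a c := by
  simp only [uH, Pi.add_apply, sq_add]; ring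

theorem uH_smul_left (s : F4) (a b : Fin 4 → F4) : uH (s • a) b = s * uH a b := by
  simp only [uH, Pi.smul_apply, smul_eq_mul]; ring

theorem uH_smul_right (s : F4) (a b : Fin 4 → F4) : uH a (s • b) = s * s * uH a b := by
  simp only [uH, Pi.smul_apply, smul_eq_mul]; ring

theorem uH_conj (a b : Fin 4 → F4) : uH a b * uH a b = uH b a := by
  have e : ∀ p q : F4, p * (q * q) * (p * (q * q)) = q * (p * p) := by decide
  simp only [uH, sq_add, e]

theorem triflection_preserves {v : Fin 4 → F4} (hv : uH v v = 1) (x y : Fin 4 → F4) :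
    uH ((om * om) • (x + ((om - 1) * uH x v) • v)) ((om * om) • (y + ((om - 1) * uH y v) • v)) =
      uH x y := by
  rw [uH_smul_left, uH_smul_right, uH_add_left, uH_add_right, uH_add_right, uH_smul_left,
    uH_smul_right, uH_smul_left, uH_smul_right, hv]
  have h1 : (om - 1) * uH y v * ((om - 1) * uH y v) = (om - 1) * (om - 1) * uH v y := by
    rw [← uH_conj y v]; ring
  rw [h1]
  have h2 : ∀ a b c : F4, om * om * (om * om * (om * om) *
      (a + (om - 1) * (om - 1) * c * b + ((om - 1) * b * c + (om - 1) * b * ((om - 1) * (om - 1) * c * 1)))) = a := by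
    decide
  exact h2 (uH x y) (uH x v) (uH v y)

theorem zmod_three_sq : ∀ a : ZMod 3, a ≠ 0 → a ^ 2 = 1 := by decide

/-- Reducing modulo the centre commutes with isomorphisms. -/
theorem centerQuot_congr {G H : Type*} [Group G] [Group H] (e : G ≃* H) :
    Nonempty (G ⧸ Subgroup.center G ≃* H ⧸ Subgroup.center H) := by
  refine ⟨QuotientGroup.congr _ _ e ?_⟩
  ext x
  obtain ⟨x, rfl⟩ := e.surjective x
  simp only [Subgroup.mem_center_iff]
  rw [e.surjective.forall]
  simp [← map_mul, Subgroup.mem_center_iff]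

section transfer

variable {F F' : Type*} [Field F] [Field F']

/-- Transport of `SU` along a field isomorphism. -/
theorem su_mem_map (n q : ℕ) (e : F ≃+* F') {g : Matrix.SpecialLinearGroup (Fin n) F}
    (hg : g ∈ Cfsg.SU n F q) :
    Matrix.SpecialLinearGroup.map (e : F →+* F') g ∈ Cfsg.SU n F' q := by
  intro u v
  have hvec : ∀ w : Fin n → F', (slToMat n F' (Matrix.SpecialLinearGroup.map (e : F →+* F') g)) *ᵥ w =
      e ∘ ((slToMat n F g) *ᵥ (e.symm ∘ w)) := by
    intro w
    funext i
    simp [Matrix.mulVec, dotProduct, map_sum]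
  have h := hg (e.symm ∘ u) (e.symm ∘ v)
  rw [hvec, hvec]
  apply e.symm.injective
  simpa [Cfsg.hermForm, map_sum] using h

theorem nonempty_su_equiv (n q : ℕ) (e : F ≃+* F') :
    Nonempty (Cfsg.SU n F q ≃* Cfsg.SU n F' q) :=
  ⟨{ toFun := fun g => ⟨Matrix.SpecialLinearGroup.map (e : F →+* F') g.1, su_mem_map n q e g.2⟩
     invFun := fun g => ⟨Matrix.SpecialLinearGroup.map (e.symm : F' →+* F) g.1, su_mem_map n q e.symm g.2⟩
     left_inv := fun g => Subtype.ext (Subtype.ext (Matrix.ext fun i j => e.symm_apply_apply _))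
     right_inv := fun g => Subtype.ext (Subtype.ext (Matrix.ext fun i j => e.apply_symm_apply _))
     map_mul' := fun g h => Subtype.ext (map_mul _ g.1 h.1) }⟩

theorem sp_mem_map {l : Type*} [Fintype l] [DecidableEq l] (e : F ≃+* F')
    {A : Matrix (l ⊕ l) (l ⊕ l) F} (hA : A ∈ Matrix.symplecticGroup l F) :
    A.map e ∈ Matrix.symplecticGroup l F' := by
  rw [SymplecticGroup.mem_iff] at hA ⊢
  have hJ : (Matrix.J l F).map e = Matrix.J l F' := by
    ext i j
    rcases i with i | i <;> rcases j with j | j <;> by_cases h : i = j <;>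
      simp [Matrix.J, Matrix.one_apply, h]
  have h := congrArg (fun M : Matrix (l ⊕ l) (l ⊕ l) F => M.map e) hA
  simp only [Matrix.map_mul, ← Matrix.transpose_map, hJ] at h
  exact h

theorem nonempty_sp_equiv (m : ℕ) (e : F ≃+* F') :
    Nonempty (Matrix.symplecticGroup (Fin m) F ≃* Matrix.symplecticGroup (Fin m) F') :=
  ⟨{ toFun := fun g => ⟨g.1.map e, sp_mem_map e g.2⟩
     invFun := fun g => ⟨g.1.map e.symm, sp_mem_map e.symm g.2⟩
     left_inv := fun g => Subtype.ext (Matrix.ext fun i j => e.symm_apply_apply _)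
     right_inv := fun g => Subtype.ext (Matrix.ext fun i j => e.apply_symm_apply _)
     map_mul' := fun g h => Subtype.ext (Matrix.map_mul (f := e)) }⟩

end transfer

open Classical.U Linear.Symp in
/-- `PSU_4(2) ≅ PSp_4(3)` over the standard models of the two fields. -/
theorem nonempty_iso_model : Nonempty (Cfsg.PSU 4 F4 2 ≃* Cfsg.PSp 2 (ZMod 3)) := by
  classical
  have : Fact (Nat.Prime 3) := ⟨by norm_num⟩
  have hF : SqField F4 2 := sqField_of_fintype (by rw [card_F4]; rfl)
  -- the unitary side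
  have huo : ∀ i, uVec i ≠ 0 := fun i h => by
    have := u_norm i
    rw [h] at this
    exact absurd this (by decide)
  obtain ⟨φ, hφ⟩ := exists_point_hom ((slToMat 4 F4).comp (Cfsg.SU 4 F4 2).subtype) uVec huo
    (fun i j c h => u_uniq i j c fun k => congrFun h k) (fun g i => by
      set w := ((slToMat 4 F4).comp (Cfsg.SU 4 F4 2).subtype) g *ᵥ uVec i with hw
      have h1 : uH w w = 1 := by
        rw [← hermForm_eq_uH, hw]
        exact (g.2 (uVec i) (uVec i)).trans (by rw [hermForm_eq_uH, u_norm])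
      have e : w = ![w 0, w 1, w 2, w 3] := by funext k; fin_cases k <;> rfl
      obtain ⟨j, c, a, b, d, f⟩ := u_cov _ _ _ _ (e ▸ h1)
      exact ⟨j, c, funext fun k => by fin_cases k <;> assumption⟩)
  -- the symplectic side
  have hso : ∀ i, sVec i ≠ 0 := fun i h => by
    obtain ⟨k, hk⟩ := s_ne i
    exact hk (congrFun h k)
  obtain ⟨ψ, hψ⟩ := exists_point_hom (Matrix.symplecticGroup (Fin 2) (ZMod 3)).subtype sVec hso
    (fun i j c h => s_uniq i j c fun k => congrFun h k) (fun g i => by
      set w := (Matrix.symplecticGroup (Fin 2) (ZMod 3)).subtype g *ᵥ sVec i with hw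
      have h1 : w ≠ 0 := fun h => by
        apply hso i
        rw [← app_inv_app g (sVec i)]
        change app g⁻¹ w = 0
        rw [h]
        exact Matrix.mulVec_zero _
      have h2 : w (.inl 0) ≠ 0 ∨ w (.inl 1) ≠ 0 ∨ w (.inr 0) ≠ 0 ∨ w (.inr 1) ≠ 0 := by
        by_contra hc
        push Not at hc
        obtain ⟨a, b, c, d⟩ := hc
        exact h1 (funext fun k => by rcases k with k | k <;> fin_cases k <;> assumption)
      obtain ⟨j, c, a, b, d, f⟩ := s_cov _ _ _ _ h2
      exact ⟨j, c, funext fun k => by rcases k with k | k <;> fin_cases k <;> assumption⟩)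
  -- transvections and triflections agree
  have htau : ∀ y, ∀ z, ψ (tau (sVec y) 1) z = tIdx y z := by
    intro y z
    obtain ⟨c, hc⟩ := s_key y z
    refine (hψ _ _ _).2 ⟨c, funext fun k => ?_⟩
    have := congrFun (app_tau (sVec y) (1 : ZMod 3) (sVec z)) k
    rw [Pi.add_apply, Pi.smul_apply, smul_eq_mul, one_mul, Forms.sympBil_apply, sympForm_eq_sB, hc k] at this
    exact this
  have htri : ∀ y, ψ (tau (sVec y) 1) ∈ φ.range := by
    intro y
    let v := uVec y
    let A : Matrix (Fin 4) (Fin 4) F4 :=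
      (om * om) • (1 + Matrix.vecMulVec ((om - 1) • v) (fun k => v k * v k))
    have hA : ∀ x, A *ᵥ x = (om * om) • (x + ((om - 1) * uH x v) • v) := by
      intro x
      have e : (fun k => v k * v k) ⬝ᵥ x = uH x v := by
        simp only [dotProduct, Fin.sum_univ_four, uH]; ring
      rw [Matrix.smul_mulVec, Matrix.add_mulVec, Matrix.one_mulVec, Matrix.vecMulVec_mulVec, e]
      congr 2
      funext k
      simp [mul_comm, mul_left_comm, mul_assoc]
    have hdet : A.det = 1 := by
      have e : (fun k => v k * v k) ⬝ᵥ ((om - 1) • v) = om - 1 := by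
        rw [dotProduct_smul]
        have : (fun k => v k * v k) ⬝ᵥ v = uH v v := by
          simp only [dotProduct, Fin.sum_univ_four, uH]; ring
        rw [this, u_norm, smul_eq_mul, mul_one]
      rw [Matrix.det_smul, Fintype.card_fin, Matrix.vecMulVec_eq Unit,
        Matrix.det_one_add_replicateCol_mul_replicateRow, e]
      decide
    have hmem : (⟨A, hdet⟩ : Matrix.SpecialLinearGroup (Fin 4) F4) ∈ Cfsg.SU 4 F4 2 := by
      intro x x'
      rw [hermForm_eq_uH, hermForm_eq_uH]
      change uH (A *ᵥ x) (A *ᵥ x') = uH x x'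
      rw [hA, hA]
      exact triflection_preserves (u_norm y) x x'
    refine ⟨⟨_, hmem⟩, Equiv.ext fun z => ?_⟩
    rw [htau]
    obtain ⟨c, hc⟩ := u_key y z
    refine (hφ _ _ _).2 ⟨c, ?_⟩
    change A *ᵥ uVec z = c • uVec (tIdx y z)
    rw [hA]
    funext k
    simpa [v] using hc k
  have hgen : ψ.range ≤ φ.range := by
    rw [MonoidHom.range_eq_map, Subgroup.map_le_iff_le_comap, top_le_iff]
    refine closure_tau_le fun v c => ?_
    have h1 : ∀ j, tau (sVec j) c ∈ φ.range.comap ψ := by
      intro j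
      have e : tau (sVec j) c = tau (sVec j) 1 ^ c.val := by
        have : ∀ k : ℕ, tau (sVec j) (1 : ZMod 3) ^ k = tau (sVec j) (k : ZMod 3) := by
          intro k
          induction k with
          | zero => rw [pow_zero, Nat.cast_zero, tau_zero]
          | succ k ih => rw [pow_succ, ih, tau_mul, Nat.cast_succ]
        rw [this, ZMod.natCast_zmod_val]
      rw [e, Subgroup.mem_comap, map_pow]
      exact pow_mem (htri j) _
    by_cases hv : v = 0
    · rw [hv, tau_zero_vec]; exact one_mem _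
    have h2 : v (.inl 0) ≠ 0 ∨ v (.inl 1) ≠ 0 ∨ v (.inr 0) ≠ 0 ∨ v (.inr 1) ≠ 0 := by
      by_contra hc
      push Not at hc
      obtain ⟨a, b, c', d⟩ := hc
      exact hv (funext fun k => by rcases k with k | k <;> fin_cases k <;> assumption)
    obtain ⟨j, a, q1, q2, q3, q4⟩ := s_cov _ _ _ _ h2
    have e : v = a • sVec j := funext fun k => by rcases k with k | k <;> fin_cases k <;> assumption
    have ha : a ≠ 0 := fun h => hv (by rw [e, h, zero_smul])
    rw [e, tau_smul, show a ^ 2 = 1 from zmod_three_sq a ha, mul_one]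
    exact h1 j
  -- orders
  have hcardU : Nat.card (Cfsg.PSU 4 F4 2) = 25920 := by
    have h := card_PSU hF (n := 4) (by norm_num)
    rw [card_UG hF] at h
    simp only [Finset.prod_range_succ, Finset.prod_range_zero, Nat.even_iff] at h
    generalize Nat.card (Cfsg.PSU 4 F4 2) = N at h ⊢
    norm_num at h
    omega
  have hbot : Subgroup.center (Cfsg.SU 4 F4 2) = ⊥ :=
    Subgroup.eq_bot_of_card_eq _ ((card_center_SU hF (by norm_num)).trans (by norm_num))
  have := isSimpleGroup_PSU hF (n := 4) (by norm_num) (by norm_num)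
  let φ' : Cfsg.PSU 4 F4 2 →* Equiv.Perm (Fin 40) :=
    QuotientGroup.lift _ φ (by rw [hbot]; exact bot_le)
  have hcardP : Nat.card (Cfsg.PSp 2 (ZMod 3)) = 25920 := by
    have h := Subgroup.card_eq_card_quotient_mul_card_subgroup
      (Subgroup.center (Matrix.symplecticGroup (Fin 2) (ZMod 3)))
    rw [SympSub.card_symplecticGroup, card_center, ZMod.card] at h
    simp only [SympSub.spOrder, Finset.prod_range_succ, Finset.prod_range_zero] at h
    change _ = Nat.card (Cfsg.PSp 2 (ZMod 3)) * _ at h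
    generalize Nat.card (Cfsg.PSp 2 (ZMod 3)) = N at h ⊢
    norm_num at h
    omega
  have := isSimpleGroup_PSp_of_perfect (m := 2)
    (commutator_eq_top (F := ZMod 3) (m := 2) (.inr (.inl ⟨rfl, by rw [ZMod.card]⟩)))
  let ψ' : Cfsg.PSp 2 (ZMod 3) →* Equiv.Perm (Fin 40) :=
    QuotientGroup.lift _ ψ fun g hg => Equiv.ext fun i => by
      obtain ⟨a, ha⟩ := mem_center_iff.1 hg (sVec i)
      exact (hψ g i i).2 ⟨a, ha⟩
  have hψ1 : ψ' (QuotientGroup.mk (tau (sVec 0) 1)) ≠ 1 := by
    intro h
    obtain ⟨z, hz⟩ := s_moves 0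
    apply hz
    rw [← htau]
    exact Equiv.congr_fun h z
  have hψi : Function.Injective ψ' := by
    rw [← MonoidHom.ker_eq_bot_iff]
    refine (Subgroup.Normal.eq_bot_or_eq_top (MonoidHom.normal_ker ψ')).resolve_right fun h => hψ1 ?_
    rw [MonoidHom.ker_eq_top_iff] at h
    rw [h]; rfl
  have hle : ψ'.range ≤ φ'.range := by
    rintro x ⟨g, rfl⟩
    obtain ⟨g, rfl⟩ := QuotientGroup.mk_surjective g
    obtain ⟨u, hu⟩ := hgen ⟨g, rfl⟩
    exact ⟨QuotientGroup.mk u, hu⟩
  have hφi : Function.Injective φ' := by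
    rw [← MonoidHom.ker_eq_bot_iff]
    refine (Subgroup.Normal.eq_bot_or_eq_top (MonoidHom.normal_ker φ')).resolve_right fun h => ?_
    rw [MonoidHom.ker_eq_top_iff] at h
    obtain ⟨u, hu⟩ := hle ⟨_, rfl⟩
    rw [h] at hu
    exact hψ1 hu.symm
  have eU := MonoidHom.ofInjective hφi
  have eP := MonoidHom.ofInjective hψi
  have heq : ψ'.range = φ'.range := Subgroup.eq_of_le_of_card_ge hle (by
    rw [← Nat.card_congr eU.toEquiv, ← Nat.card_congr eP.toEquiv, hcardU, hcardP])
  exact ⟨eU.trans ((MulEquiv.subgroupCongr heq.symm).trans eP.symm)⟩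

theorem nonempty_iso {F K : Type*} [Field F] [Fintype F] [Field K] [Fintype K]
    (hF : Fintype.card F = 4) (hK : Fintype.card K = 3) :
    Nonempty (Cfsg.PSU 4 F 2 ≃* Cfsg.PSp 2 K) := by
  classical
  have : Fact (Nat.Prime 3) := ⟨by norm_num⟩
  obtain ⟨eF⟩ := exists_ringEquiv hF
  let eK : ZMod 3 ≃+* K := FiniteField.ringEquivOfCardEq (by rw [ZMod.card, hK])
  obtain ⟨a⟩ := nonempty_su_equiv 4 2 eF
  obtain ⟨a'⟩ := centerQuot_congr a
  obtain ⟨b⟩ := nonempty_sp_equiv 2 eK
  obtain ⟨b'⟩ := centerQuot_congr b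
  obtain ⟨c⟩ := nonempty_iso_model
  exact ⟨a'.symm.trans (c.trans b')⟩

end Cfsg.Agent.IsoPSU42
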